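import Groth.Agent.H18.Cocycle.Construct
import Groth.Agent.H18.STL.RelAmple
import Groth.Agent.H67.CocycleIso

/-!
# The inverse of an invertible module (helper18)

* `HasCocycle.isCocycle` : transition cocycles satisfy the cocycle conditions;
* `Cover.Cocycle.inv`, `isCocycle_inv` : the inverse cocycle;
* `exists_inverse` : every invertible module `L` has an inverse `L'`, `L ⊗ L' ≅ O_X`.
-/

set_option autoImplicit false
universe u
open CategoryTheory CategoryTheory.Limits AlgebraicGeometry TopologicalSpace Opposite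

namespace Groth.Agent.H18.STL

open Groth.Agent.H18 Groth.Agent.H18.PUP

variable {X : Scheme.{u}} {𝔘 : Cover X}

/-- transition cocycles satisfy the cocycle conditions -/
theorem HasCocycle.isCocycle {c : 𝔘.Cocycle} {M : X.Modules} {β : ∀ i, Γ(M, 𝔘.W i)}
    (h : HasCocycle 𝔘 c M β) : 𝔘.IsCocycle c where
  self i T hT := by
    have hTi : T ≤ 𝔘.W i := hT.trans inf_le_left
    have h1 := congrArg (mres M hT) (h.trans i i)
    simp only [mres_smul, mres_mres] at h1
    apply ((h.basis i) T hTi).1
    show rres X hT (c i i) • mres M hTi (β i) = (1 : Γ(X, T)) • mres M hTi (β i)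
    rw [one_smul]
    exact h1.symm
  comp i j k T hik hij hjk := by
    have hTi : T ≤ 𝔘.W i := hik.trans inf_le_left
    have hTj : T ≤ 𝔘.W j := hij.trans inf_le_right
    have hTk : T ≤ 𝔘.W k := hik.trans inf_le_right
    have h1 := congrArg (mres M hik) (h.trans i k)
    have h2 := congrArg (mres M hij) (h.trans i j)
    have h3 := congrArg (mres M hjk) (h.trans j k)
    simp only [mres_smul, mres_mres] at h1 h2 h3
    apply ((h.basis i) T hTi).1
    show rres X hik (c i k) • mres M hTi (β i) =
      (rres X hij (c i j) * rres X hjk (c j k)) • mres M hTi (β i)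
    rw [mul_comm, mul_smul]
    exact h1.symm.trans (h3.trans (congrArg _ h2))

/-- the inverse cocycle -/
noncomputable def Cover.Cocycle.inv (c : 𝔘.Cocycle) : 𝔘.Cocycle :=
  fun i j => rres X (le_inf inf_le_right inf_le_left : 𝔘.W i ⊓ 𝔘.W j ≤ 𝔘.W j ⊓ 𝔘.W i) (c j i)

theorem isCocycle_inv {c : 𝔘.Cocycle} (hc : 𝔘.IsCocycle c) : 𝔘.IsCocycle c.inv where
  self i T hT := by
    unfold Cover.Cocycle.inv
    rw [rres_rres]
    exact hc.self i T _
  comp i j k T hik hij hjk := by
    unfold Cover.Cocycle.inv
    rw [rres_rres, rres_rres, rres_rres, mul_comm]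
    exact hc.comp k j i T _ _ _

theorem mul_inv_eq_one {c : 𝔘.Cocycle} (hc : 𝔘.IsCocycle c) : c * c.inv = 1 := by
  funext i j
  show c i j * rres X _ (c j i) = 1
  have h1 := hc.comp i j i (𝔘.W i ⊓ 𝔘.W j) (le_inf inf_le_left inf_le_left) le_rfl
    (le_inf inf_le_right inf_le_left)
  rw [hc.self, rres_self] at h1
  exact h1.symm

/-- **Every invertible module has an inverse.** -/
theorem exists_inverse {L : X.Modules} (hL : PicF.IsInvertible L) :
    ∃ L' : X.Modules, PicF.IsInvertible L' ∧
      Nonempty (CohB1.tensorMod L L' ≅ Coh.structureModule X) := by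
  obtain ⟨𝔘, c, e, h⟩ := exists_cover_cocycle hL
  have hc := h.isCocycle
  have hc' := isCocycle_inv hc
  have h' := hasCocycle_ofCocycle hc'
  refine ⟨ofCocycle 𝔘 c.inv, h'.isInvertible, ?_⟩
  have h2 := h.tmul h'
  rw [mul_inv_eq_one hc] at h2
  exact Groth.Agent.H67.CocycleIso.nonempty_iso h2 (hasCocycle_unit 𝔘)

end Groth.Agent.H18.STL
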