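import Groth.Agent.H18.STL.Cocycle

/-!
# The invertible module attached to a multiplicative cocycle (helper18)

Given a cover `𝔘` of a scheme `X` and functions `c i j` on the overlaps `W i ⊓ W j` satisfying the
cocycle conditions `c i i = 1`, `c i k = c i j * c j k`, we construct an `O_X`-module
`ofCocycle 𝔘 c hc` with bases `ofCocycleBasis 𝔘 c hc i` over the `W i` and transition cocycle `c`
(`hasCocycle_ofCocycle`).  Sections over `U` are the families `s i ∈ Γ(X, U ⊓ W i)` with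
`s i = c i j * s j` on `U ⊓ W i ⊓ W j`.
-/

set_option autoImplicit false
universe u
open CategoryTheory CategoryTheory.Limits AlgebraicGeometry TopologicalSpace Opposite

namespace Groth.Agent.H18.STL

open Groth.Agent.H18 Groth.Agent.H18.PUP

variable {X : Scheme.{u}} (𝔘 : Cover X) (c : 𝔘.Cocycle)

/-- the (multiplicative) cocycle conditions, stated on arbitrary smaller opens -/
structure Cover.IsCocycle : Prop where
  self : ∀ (i : 𝔘.ι) (T : X.Opens) (h : T ≤ 𝔘.W i ⊓ 𝔘.W i), rres X h (c i i) = 1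
  comp : ∀ (i j k : 𝔘.ι) (T : X.Opens) (hik : T ≤ 𝔘.W i ⊓ 𝔘.W k) (hij : T ≤ 𝔘.W i ⊓ 𝔘.W j)
    (hjk : T ≤ 𝔘.W j ⊓ 𝔘.W k), rres X hik (c i k) = rres X hij (c i j) * rres X hjk (c j k)

namespace OfCocycle

/-- `Γ(X, U)` acts on `Γ(X, U ⊓ W i)` through restriction -/
noncomputable instance modComp (U : X.Opens) (i : 𝔘.ι) : Module Γ(X, U) Γ(X, U ⊓ 𝔘.W i) :=
  Module.compHom _ (rres X (inf_le_left : U ⊓ 𝔘.W i ≤ U)).hom

theorem smul_def (U : X.Opens) (i : 𝔘.ι) (r : Γ(X, U)) (a : Γ(X, U ⊓ 𝔘.W i)) :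
    r • a = rres X (inf_le_left : U ⊓ 𝔘.W i ≤ U) r * a := rfl

/-- compatible families -/
def Compat (U : X.Opens) (s : ∀ i, Γ(X, U ⊓ 𝔘.W i)) : Prop :=
  ∀ (i j : 𝔘.ι) (T : X.Opens) (h₁ : T ≤ U ⊓ 𝔘.W i) (h₂ : T ≤ U ⊓ 𝔘.W j)
    (h₃ : T ≤ 𝔘.W i ⊓ 𝔘.W j), rres X h₁ (s i) = rres X h₃ (c i j) * rres X h₂ (s j)

/-- the module of sections over `U` -/
noncomputable def secs (U : X.Opens) : Submodule Γ(X, U) (∀ i, Γ(X, U ⊓ 𝔘.W i)) where
  carrier := {s | Compat 𝔘 c U s}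
  add_mem' := by
    intro s t hs ht i j T h₁ h₂ h₃
    rw [Pi.add_apply, Pi.add_apply, map_add, map_add, hs i j T h₁ h₂ h₃, ht i j T h₁ h₂ h₃, mul_add]
  zero_mem' := by
    intro i j T h₁ h₂ h₃
    rw [Pi.zero_apply, Pi.zero_apply, map_zero, map_zero, mul_zero]
  smul_mem' := by
    intro r s hs i j T h₁ h₂ h₃
    rw [Pi.smul_apply, Pi.smul_apply, smul_def, smul_def, map_mul, map_mul, rres_rres, rres_rres,
      hs i j T h₁ h₂ h₃]
    ring

/-- restriction of families -/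
noncomputable def resFam {U V : X.Opens} (h : V ≤ U) (s : ∀ i, Γ(X, U ⊓ 𝔘.W i)) :
    ∀ i, Γ(X, V ⊓ 𝔘.W i) :=
  fun i => rres X (inf_le_inf_right _ h : V ⊓ 𝔘.W i ≤ U ⊓ 𝔘.W i) (s i)

theorem compat_resFam {U V : X.Opens} (h : V ≤ U) {s : ∀ i, Γ(X, U ⊓ 𝔘.W i)}
    (hs : Compat 𝔘 c U s) : Compat 𝔘 c V (resFam 𝔘 h s) := by
  intro i j T h₁ h₂ h₃
  unfold resFam
  rw [rres_rres, rres_rres]
  exact hs i j T _ _ h₃

/-- restriction of sections -/
noncomputable def resSec {U V : X.Opens} (h : V ≤ U) : secs 𝔘 c U →+ secs 𝔘 c V where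
  toFun s := ⟨resFam 𝔘 h s.1, compat_resFam 𝔘 c h s.2⟩
  map_zero' := by
    apply Subtype.ext
    funext i
    exact map_zero _
  map_add' s t := by
    apply Subtype.ext
    funext i
    exact map_add _ _ _

theorem resSec_val {U V : X.Opens} (h : V ≤ U) (s : secs 𝔘 c U) (i : 𝔘.ι) :
    (resSec 𝔘 c h s).1 i = rres X (inf_le_inf_right _ h : V ⊓ 𝔘.W i ≤ U ⊓ 𝔘.W i) (s.1 i) := rfl

/-- the underlying presheaf of abelian groups -/
noncomputable def pre : (Opens X)ᵒᵖ ⥤ Ab.{u} where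
  obj U := AddCommGrpCat.of (secs 𝔘 c U.unop)
  map {U V} f := AddCommGrpCat.ofHom (resSec 𝔘 c (leOfHom f.unop))
  map_id U := by
    ext s i
    exact rres_self _ _
  map_comp {U V W} f g := by
    ext s i
    exact (rres_rres _ _ _).symm

noncomputable instance (U : (Opens X)ᵒᵖ) :
    Module (X.ringCatSheaf.obj.obj U) ((pre 𝔘 c).obj U) :=
  inferInstanceAs (Module Γ(X, U.unop) (secs 𝔘 c U.unop))

theorem pre_map_smul ⦃U V : (Opens X)ᵒᵖ⦄ (f : U ⟶ V) (r : X.ringCatSheaf.obj.obj U)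
    (m : (pre 𝔘 c).obj U) :
    (pre 𝔘 c).map f (r • m) = X.ringCatSheaf.obj.map f r • (pre 𝔘 c).map f m := by
  apply Subtype.ext
  funext i
  show rres X _ (rres X _ r * m.1 i) = rres X _ (rres X _ r) * rres X _ (m.1 i)
  rw [map_mul, rres_rres, rres_rres]

theorem isSheaf_pre : TopCat.Presheaf.IsSheaf (pre 𝔘 c) := by
  rw [TopCat.Presheaf.isSheaf_iff_isSheafUniqueGluing]
  intro ι' U sf hsf
  have hsf' : ∀ (a b : ι') (i : 𝔘.ι),
      rres X (inf_le_inf_right _ inf_le_left : (U a ⊓ U b) ⊓ 𝔘.W i ≤ U a ⊓ 𝔘.W i) ((sf a).1 i) =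
      rres X (inf_le_inf_right _ inf_le_right : (U a ⊓ U b) ⊓ 𝔘.W i ≤ U b ⊓ 𝔘.W i) ((sf b).1 i) :=
    fun a b i => congrFun (congrArg Subtype.val (hsf a b)) i
  have hglue : ∀ i, ∃ t : Γ(X, iSup U ⊓ 𝔘.W i), ∀ a,
      rres X (inf_le_inf_right _ (le_iSup U a) : U a ⊓ 𝔘.W i ≤ iSup U ⊓ 𝔘.W i) t = (sf a).1 i := by
    intro i
    refine exists_glue_fun (fun a => U a ⊓ 𝔘.W i) (iSup U ⊓ 𝔘.W i)
      (fun a => inf_le_inf_right _ (le_iSup U a)) ?_ (fun a => (sf a).1 i) ?_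
    · rintro x ⟨hxU, hxW⟩
      obtain ⟨a, ha⟩ := Opens.mem_iSup.1 hxU
      exact ⟨a, ha, hxW⟩
    · intro a b
      have h1 := congrArg (rres X (le_inf (le_inf (inf_le_left.trans inf_le_left)
        (inf_le_right.trans inf_le_left)) (inf_le_left.trans inf_le_right) :
          (U a ⊓ 𝔘.W i) ⊓ (U b ⊓ 𝔘.W i) ≤ (U a ⊓ U b) ⊓ 𝔘.W i)) (hsf' a b i)
      rwa [rres_rres, rres_rres] at h1
  choose t ht using hglue
  have htc : Compat 𝔘 c (iSup U) t := by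
    intro i j T h₁ h₂ h₃
    refine fun_eq_of_locally_eq _ _ (fun x hx => ?_)
    obtain ⟨a, ha⟩ := Opens.mem_iSup.1 (h₁ hx).1
    refine ⟨T ⊓ U a, inf_le_left, ⟨hx, ha⟩, ?_⟩
    rw [map_mul, rres_rres, rres_rres, rres_rres]
    have hi : T ⊓ U a ≤ U a ⊓ 𝔘.W i := le_inf inf_le_right (inf_le_left.trans (h₁.trans inf_le_right))
    have hj : T ⊓ U a ≤ U a ⊓ 𝔘.W j := le_inf inf_le_right (inf_le_left.trans (h₂.trans inf_le_right))
    have e1 : rres X ((inf_le_left : T ⊓ U a ≤ T).trans h₁) (t i) = rres X hi ((sf a).1 i) := by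
      rw [← ht i a, rres_rres]
    have e2 : rres X ((inf_le_left : T ⊓ U a ≤ T).trans h₂) (t j) = rres X hj ((sf a).1 j) := by
      rw [← ht j a, rres_rres]
    rw [e1, e2]
    exact (sf a).2 i j (T ⊓ U a) hi hj _
  refine ⟨⟨t, htc⟩, ?_, ?_⟩
  · intro a
    apply Subtype.ext
    funext i
    exact ht i a
  · intro s' hs'
    apply Subtype.ext
    funext i
    refine fun_eq_of_locally_eq _ _ (fun x hx => ?_)
    obtain ⟨a, ha⟩ := Opens.mem_iSup.1 hx.1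
    refine ⟨U a ⊓ 𝔘.W i, inf_le_inf_right _ (le_iSup U a), ⟨ha, hx.2⟩, ?_⟩
    rw [ht i a]
    exact congrFun (congrArg Subtype.val (hs' a)) i

end OfCocycle

open OfCocycle

/-- the module attached to a cocycle -/
noncomputable def ofCocycle : X.Modules where
  val := PresheafOfModules.ofPresheaf (pre 𝔘 c) (pre_map_smul 𝔘 c)
  isSheaf := isSheaf_pre 𝔘 c

namespace OfCocycle

/-- sections of `ofCocycle` as compatible families -/
def toSecs {U : X.Opens} (s : Γ(ofCocycle 𝔘 c, U)) : secs 𝔘 c U := s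

/-- compatible families as sections of `ofCocycle` -/
def ofSecs {U : X.Opens} (s : secs 𝔘 c U) : Γ(ofCocycle 𝔘 c, U) := s

theorem toSecs_ofSecs {U : X.Opens} (s : secs 𝔘 c U) : toSecs 𝔘 c (ofSecs 𝔘 c s) = s := rfl

theorem sec_ext {U : X.Opens} (s t : Γ(ofCocycle 𝔘 c, U))
    (h : ∀ i, (toSecs 𝔘 c s).1 i = (toSecs 𝔘 c t).1 i) : s = t :=
  Subtype.ext (funext h)

theorem sec_mres {U V : X.Opens} (h : V ≤ U) (s : Γ(ofCocycle 𝔘 c, U)) (i : 𝔘.ι) :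
    (toSecs 𝔘 c (mres (ofCocycle 𝔘 c) h s)).1 i =
      rres X (inf_le_inf_right _ h : V ⊓ 𝔘.W i ≤ U ⊓ 𝔘.W i) ((toSecs 𝔘 c s).1 i) := rfl

theorem sec_smul {U : X.Opens} (r : Γ(X, U)) (s : Γ(ofCocycle 𝔘 c, U)) (i : 𝔘.ι) :
    (toSecs 𝔘 c (r • s)).1 i =
      rres X (inf_le_left : U ⊓ 𝔘.W i ≤ U) r * (toSecs 𝔘 c s).1 i := rfl

/-- the coordinates of the basis over `W i` -/
noncomputable def basisFam (i : 𝔘.ι) : ∀ k, Γ(X, 𝔘.W i ⊓ 𝔘.W k) :=
  fun k => rres X (le_inf inf_le_right inf_le_left : 𝔘.W i ⊓ 𝔘.W k ≤ 𝔘.W k ⊓ 𝔘.W i) (c k i)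

variable {𝔘 c} in
theorem compat_basisFam (hc : 𝔘.IsCocycle c) (i : 𝔘.ι) :
    Compat 𝔘 c (𝔘.W i) (basisFam 𝔘 c i) := by
  intro k l T h₁ h₂ h₃
  unfold basisFam
  rw [rres_rres, rres_rres]
  exact hc.comp k l i T _ h₃ _

end OfCocycle

variable {𝔘 c}

/-- the basis of `ofCocycle` over `W i` -/
noncomputable def ofCocycleBasis (hc : 𝔘.IsCocycle c) (i : 𝔘.ι) : Γ(ofCocycle 𝔘 c, 𝔘.W i) :=
  ofSecs 𝔘 c ⟨basisFam 𝔘 c i, compat_basisFam hc i⟩

theorem ofCocycleBasis_val (hc : 𝔘.IsCocycle c) (i k : 𝔘.ι) :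
    (toSecs 𝔘 c (ofCocycleBasis hc i)).1 k =
      rres X (le_inf inf_le_right inf_le_left : 𝔘.W i ⊓ 𝔘.W k ≤ 𝔘.W k ⊓ 𝔘.W i) (c k i) := rfl

/-- **The module attached to a cocycle has that transition cocycle.** -/
theorem hasCocycle_ofCocycle (hc : 𝔘.IsCocycle c) :
    HasCocycle 𝔘 c (ofCocycle 𝔘 c) (ofCocycleBasis hc) where
  basis i := by
    intro V hV
    constructor
    · intro r r' hrr'
      have h1 := congrArg (fun s => (toSecs 𝔘 c s).1 i) hrr'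
      simp only [sec_smul, sec_mres, ofCocycleBasis_val, rres_rres] at h1
      rw [hc.self i, mul_one, mul_one] at h1
      have h2 := congrArg (rres X (le_inf le_rfl hV : V ≤ V ⊓ 𝔘.W i)) h1
      rwa [rres_rres, rres_rres, rres_self, rres_self] at h2
    · intro s
      refine ⟨rres X (le_inf le_rfl hV : V ≤ V ⊓ 𝔘.W i) ((toSecs 𝔘 c s).1 i), ?_⟩
      refine sec_ext 𝔘 c _ _ (fun k => ?_)
      rw [sec_smul, sec_mres, ofCocycleBasis_val, rres_rres, rres_rres]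
      have h1 := (toSecs 𝔘 c s).2 k i (V ⊓ 𝔘.W k) le_rfl (le_inf inf_le_left (inf_le_left.trans hV))
        (le_inf inf_le_right (inf_le_left.trans hV))
      rw [rres_self] at h1
      rw [h1, mul_comm]
  trans i j := by
    refine sec_ext 𝔘 c _ _ (fun k => ?_)
    rw [sec_smul, sec_mres, sec_mres, ofCocycleBasis_val, ofCocycleBasis_val, rres_rres, rres_rres]
    rw [hc.comp k i j _ _ (le_inf inf_le_right (inf_le_left.trans inf_le_left))
      (inf_le_left : (𝔘.W i ⊓ 𝔘.W j) ⊓ 𝔘.W k ≤ 𝔘.W i ⊓ 𝔘.W j), mul_comm]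

theorem isInvertible_ofCocycle (hc : 𝔘.IsCocycle c) : PicF.IsInvertible (ofCocycle 𝔘 c) :=
  (hasCocycle_ofCocycle hc).isInvertible

end Groth.Agent.H18.STL
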